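import Cfsg.Agent.Lib.JTwoRecog.Amal.Orbit
import Cfsg.Agent.Lib.JTwoRecog.Iso

/-!
# A group of Hall–Janko type satisfies the presentation
-/

set_option autoImplicit false
set_option maxRecDepth 8000
set_option linter.style.haveILetI false

namespace CfsgLib.JTwoRecog

open Subgroup CfsgLib.JTwoType Equiv
open CfsgLib.JTwoType.Data (mem_cent)
open Tuple (evP)

universe u

/-- The letters lying in the first alternating group. -/
def lettersA : ℕ → A5 := letters d0 w0 p0 1 1 1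

/-- The letters lying in the second alternating group. -/
def lettersB : ℕ → A5 := letters 1 1 1 p0 q0 d0

theorem a0_twice : a0 * (w0 * p0) * a0⁻¹ = w0 ∧ a0 * w0 * a0⁻¹ = p0 ∧ a0 * p0 * a0⁻¹ = w0 * p0 ∧
    p0 * q0 * d0 * q0 * d0⁻¹ = 1 := by decide +kernel

theorem t14_eq : q0 * p0 * q0⁻¹ = w0 := by decide +kernel

theorem a_rels : ∀ l ∈ ([[0, 0, 0, 0, 0], [0, 3, 0, 3, 0, 3], [0, 0, 2, 3, 0, 0, 3, 1, 1, 3]] : List (List ℕ)),
    (l.map lettersA).prod = 1 := by decide +kernel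

theorem b_rels : ∀ l ∈ ([[5, 5, 5], [4, 5, 7, 5, 8], [4, 5, 8, 6, 7, 7]] : List (List ℕ)),
    (l.map lettersB).prod = 1 := by decide +kernel

variable {G : Type u} [Group G] [Finite G] (D : CfsgLib.JTwoType.Data G) (A : Amal D.z)

theorem isTuple (hπ : prodV D A = 1) : Tuple D.z A.vv :=
  ⟨CfsgLib.Invol.mul_self_eq_one D.ht.hz, D.hc.z_ne D.ht, vv_sq D A,
    fun i => (D.hc.z_comm (vv_mem D A i)).eq, fun _ _ h => vv_anti D A h, hπ⟩

theorem evP_mul' (hπ : prodV D A = 1) (x y : Fin 32 × A5) :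
    evP D.z A.vv A.β (mulP x y) = evP D.z A.vv A.β x * evP D.z A.vv A.β y :=
  (isTuple D A hπ).evP_mul A.β (fun b => (A.z_comm b).eq.symm) A.conj_vv x y

theorem ev_mem (n : Fin 32) : ev D.z A.vv n ∈ D.Q := by
  refine list_prod_mem fun x hx => ?_
  obtain ⟨o, -, rfl⟩ := List.mem_map.1 hx
  rcases o with _ | i
  · exact D.hc.hzQ
  · exact vv_mem D A i

theorem beta_mem_Q {b : A5} (hb : A.β b ∈ D.Q) : b = 1 := by
  have hs : ∀ b : A5, A.β b ∈ centralizer ({D.z} : Set G) := fun b => mem_cent.2 (A.z_comm b).symm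
  let φ : A5 →* A5 := D.f.comp (A.β.codRestrict _ hs)
  have hne : φ.ker ≠ ⊤ := by
    intro htop
    have hle : A.β.range ≤ D.Q := by
      rintro _ ⟨x, rfl⟩
      exact (D.hc.hker ⟨A.β x, hs x⟩).1 (MonoidHom.mem_ker.1 (htop ▸ mem_top x : x ∈ φ.ker))
    have h := Subgroup.card_le_of_le hle
    rw [← Nat.card_congr (MonoidHom.ofInjective A.hβ).toEquiv, D.hc.hQ, Nat.card_eq_fintype_card,
      show Fintype.card A5 = 60 by decide +kernel] at h
    omega
  have hbot := φ.normal_ker.eq_bot_or_eq_top.resolve_right hne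
  have : b ∈ φ.ker := MonoidHom.mem_ker.2 ((D.hc.hker ⟨A.β b, hs b⟩).2 hb)
  rwa [hbot, mem_bot] at this

theorem evP_injective (hπ : prodV D A = 1) : Function.Injective (evP D.z A.vv A.β) := by
  rintro ⟨m, b⟩ ⟨n, c⟩ h
  change ev D.z A.vv m * A.β b = ev D.z A.vv n * A.β c at h
  have h1 : (ev D.z A.vv n)⁻¹ * ev D.z A.vv m = A.β (c * b⁻¹) := by
    rw [map_mul, map_inv]
    calc (ev D.z A.vv n)⁻¹ * ev D.z A.vv m = (ev D.z A.vv n)⁻¹ * (ev D.z A.vv m * A.β b) * (A.β b)⁻¹ := by group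
      _ = A.β c * (A.β b)⁻¹ := by rw [h]; group
  have h2 := beta_mem_Q D A (h1 ▸ mul_mem (inv_mem (ev_mem D A n)) (ev_mem D A m))
  obtain rfl : c = b := mul_inv_eq_one.1 h2
  exact Prod.ext ((isTuple D A hπ).ev_injective (mul_right_cancel h)) rfl

theorem exists_code (hπ : prodV D A = 1) {c : G} (hc : Commute c D.z) :
    ∃ x, evP D.z A.vv A.β x = c := by
  let F : Fin 32 × A5 → ↥(centralizer ({D.z} : Set G)) := fun x =>
    ⟨evP D.z A.vv A.β x, mem_cent.2 ((mem_cent.1 (D.hc.hQle (ev_mem D A x.1))).mul_left (A.z_comm x.2).symm)⟩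
  have hF : Function.Injective F := fun a b hab => evP_injective D A hπ (congrArg Subtype.val hab)
  have hb := hF.bijective_of_nat_card_le (by
    rw [D.zCard, Nat.card_prod, Nat.card_eq_fintype_card, Nat.card_eq_fintype_card, Fintype.card_fin,
      show Fintype.card A5 = 60 by decide +kernel])
  obtain ⟨x, hx⟩ := hb.2 ⟨c, mem_cent.2 hc⟩
  exact ⟨x, congrArg Subtype.val hx⟩

theorem ev_five (z : G) (u : Fin 5 → G) : ev z u 5 = u 1 * u 3 ∧ ev z u 3 = u 1 * u 2 :=
  ⟨by simp [ev, wordN, valG], by simp [ev, wordN, valG]⟩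

/-- The element of order three moves `v₁ v₂` to `v₁ v₃` followed by a permutation. -/
theorem twist (hπ : prodV D A = 1) :
    A.α a0 * (A.vv 1 * A.vv 2) * (A.α a0)⁻¹ = A.vv 1 * A.vv 3 * A.β w0 := by
  set Φ := evP D.z A.vv A.β with hΦ
  have hm : ∀ a b, Φ (mulP a b) = Φ a * Φ b := evP_mul' D A hπ
  obtain ⟨hxx, hpx, htri, hvx⟩ := x_facts
  obtain ⟨ha1, ha2, ha3, -⟩ := a0_twice
  set a := A.α a0 with ha
  set x := A.vv 1 * A.vv 2 with hx
  have hΦx : Φ (3, 1) = x := by
    show ev D.z A.vv 3 * A.β 1 = x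
    rw [(ev_five D.z A.vv).2, map_one, mul_one]
  have hΦv : Φ cV = A.vI := by
    show ev D.z A.vv (mulGen (some 0) 0) * A.β 1 = A.vI
    rw [(isTuple D A hπ).ev_gen, map_one, mul_one, Tuple.ev_zero, mul_one]
    exact A.vv_zero
  have hΦB : ∀ b, Φ (cB b) = A.β b := fun b => by
    show ev D.z A.vv 0 * A.β b = _
    rw [Tuple.ev_zero, one_mul]
  have hΦ1 : Φ (0, 1) = 1 := by rw [show ((0, 1) : Fin 32 × A5) = cB 1 from rfl, hΦB, map_one]
  have hΦz : Φ (16, 1) = D.z := by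
    show ev D.z A.vv 16 * A.β 1 = _
    rw [(isTuple D A hπ).ev_sixteen, map_one, mul_one]
  have haz : a * D.z * a⁻¹ = A.vI := by
    have h : A.α a0 * A.α w0 * (A.α a0)⁻¹ = A.α p0 := by rw [← map_mul, ← map_inv, ← map_mul, ha2]
    rw [A.hz] at h; exact h
  have hav : a * A.vI * a⁻¹ = D.z * A.vI := by
    have h : A.α a0 * A.α p0 * (A.α a0)⁻¹ = A.α w0 * A.α p0 := by
      rw [← map_mul, ← map_inv, ← map_mul, ha3, map_mul]
    rw [A.hz] at h; exact h
  have hazv : a * (D.z * A.vI) * a⁻¹ = D.z := by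
    rw [show a * (D.z * A.vI) * a⁻¹ = a * D.z * a⁻¹ * (a * A.vI * a⁻¹) by group, haz, hav,
      ← A.vI_invol.2.2.2.eq, ← mul_assoc, A.vI_invol.1, one_mul]
  have hxz : Commute x D.z := D.hc.z_comm (mul_mem (vv_mem D A 1) (vv_mem D A 2))
  have hxv : Commute x A.vI := by
    rw [← hΦx, ← hΦv]
    show Φ _ * Φ _ = Φ _ * Φ _
    rw [← hm, ← hm, hvx]
  set y := a * x * a⁻¹ with hy
  have hyz : Commute y D.z := by
    rw [← hazv]; exact (Commute.conj_iff a).2 (hxz.mul_right hxv)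
  obtain ⟨⟨n, b⟩, hnb⟩ := exists_code D A hπ hyz
  change Φ (n, b) = y at hnb
  have hinj : Function.Injective Φ := evP_injective D A hπ
  have hyv : Commute y A.vI := by rw [← haz]; exact (Commute.conj_iff a).2 hxz
  have hyy : y * y = A.vI := by
    have hxx' : x * x = D.z := by rw [← hΦx, ← hm, hxx, hΦz]
    rw [hy, show a * x * a⁻¹ * (a * x * a⁻¹) = a * (x * x) * a⁻¹ by group, hxx', haz]
  have hβa : ∀ k : A5, k ∈ ({p0, q0, q0⁻¹, q0 * q0, q0⁻¹ * q0⁻¹} : Set A5) → Commute a (A.β k) := by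
    intro k hk
    simp only [Set.mem_insert_iff, Set.mem_singleton_iff] at hk
    rcases hk with rfl | rfl | rfl | rfl | rfl
    · exact A.hp a0
    · exact A.hq a0
    · rw [map_inv]; exact (A.hq a0).inv_right
    · rw [map_mul]; exact (A.hq a0).mul_right (A.hq a0)
    · rw [map_mul, map_inv]; exact (A.hq a0).inv_right.mul_right (A.hq a0).inv_right
  have hmove : ∀ k l : A5, k ∈ ({p0, q0, q0⁻¹, q0 * q0, q0⁻¹ * q0⁻¹} : Set A5) →
      l ∈ ({p0, q0, q0⁻¹, q0 * q0, q0⁻¹ * q0⁻¹} : Set A5) →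
      A.β k * y * A.β l = a * (A.β k * x * A.β l) * a⁻¹ := fun k l hk hl => by
    rw [hy, show A.β k * (a * x * a⁻¹) * A.β l = (A.β k * a) * x * (a⁻¹ * A.β l) by group,
      ← (hβa k hk).eq, ((hβa l hl).inv_left).eq]
    group
  have hc3 : A.β p0 * y * A.β p0 = y * A.vI := by
    rw [hmove p0 p0 (by simp) (by simp)]
    have h : A.β p0 * x * A.β p0 = x * D.z := by
      rw [← hΦx, ← hΦB, ← hΦz, ← hm, ← hm, ← hm, hpx]
      exact congrArg Φ (by decide +kernel)
    rw [h, hy, ← haz]; group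
  have hc4 : y * (A.β q0 * y * A.β q0⁻¹) * (A.β (q0 * q0) * y * A.β (q0⁻¹ * q0⁻¹)) = 1 := by
    have h : x * (A.β q0 * x * A.β q0⁻¹) * (A.β (q0 * q0) * x * A.β (q0⁻¹ * q0⁻¹)) = 1 := by
      rw [← hΦx, ← hΦB, ← hΦB, ← hΦB, ← hΦB, ← hm, ← hm, ← hm, ← hm, ← hm, ← hm, htri, hΦ1]
    rw [hmove q0 _ (by simp) (by simp), hmove (q0 * q0) _ (by simp) (by simp), hy]
    calc _ = a * (x * (A.β q0 * x * A.β q0⁻¹) * (A.β (q0 * q0) * x * A.β (q0⁻¹ * q0⁻¹))) * a⁻¹ := by group
      _ = 1 := by rw [h]; group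
  have hcond : condB (n, b) = true := by
    simp only [condB, Bool.and_eq_true, decide_eq_true_eq]
    refine ⟨⟨⟨hinj ?_, hinj ?_⟩, hinj ?_⟩, hinj ?_⟩
    · rw [hm, hm, hnb, hΦv]; exact hyv.eq
    · rw [hm, hnb, hΦv]; exact hyy
    · rw [hm, hm, hm, hnb, hΦB, hΦv]; exact hc3
    · rw [hm, hm, hm, hm, hm, hm, hnb, hΦB, hΦB, hΦB, hΦB, hΦ1]; exact hc4
  obtain ⟨rfl, rfl⟩ := cond_unique n b hcond
  rw [← hnb]
  show ev D.z A.vv 5 * A.β w0 = _
  rw [(ev_five D.z A.vv).1]

/-- The nine letters inside the group. -/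
def sysLetters : ℕ → G := letters (A.α d0) D.z A.vI (A.β p0) (A.β q0) (A.β d0)

theorem isSystem (hπ : prodV D A = 1) : IsSystem (sysLetters D A) := by
  obtain ⟨hv2, -, -, hvz⟩ := A.vI_invol
  have hp2 : A.β p0 * A.β p0 = 1 := by rw [← map_mul, w0_facts.2.1, map_one]
  refine isSystem_letters (CfsgLib.Invol.mul_self_eq_one D.ht.hz) hv2 hp2 ?_
  set g := sysLetters D A with hg
  have hA : ∀ x, x ≤ 3 → g x = A.α (lettersA x) := by
    intro x hx
    interval_cases x
    · rfl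
    · exact (map_inv A.α d0).symm
    · exact A.hz.symm
    · rfl
  have hB : ∀ x, 4 ≤ x → x ≤ 8 → g x = A.β (lettersB x) := by
    intro x h1 h2
    interval_cases x
    · rfl
    · rfl
    · exact (map_inv A.β q0).symm
    · rfl
    · exact (map_inv A.β d0).symm
  have hAr : ∀ l ∈ ([[0, 0, 0, 0, 0], [0, 3, 0, 3, 0, 3], [0, 0, 2, 3, 0, 0, 3, 1, 1, 3]] : List (List ℕ)),
      (l.map g).prod = 1 := by
    intro l hl
    have hle : ∀ x ∈ l, x ≤ 3 := by
      revert l; decide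
    rw [List.map_congr_left (fun x hx => hA x (hle x hx)), show (l.map fun x => A.α (lettersA x)) =
      (l.map lettersA).map A.α by rw [List.map_map]; rfl, ← map_list_prod, a_rels l hl, map_one]
  have hBr : ∀ l ∈ ([[5, 5, 5], [4, 5, 7, 5, 8], [4, 5, 8, 6, 7, 7]] : List (List ℕ)),
      (l.map g).prod = 1 := by
    intro l hl
    have hle : ∀ x ∈ l, 4 ≤ x ∧ x ≤ 8 := by
      revert l; decide
    rw [List.map_congr_left (fun x hx => hB x (hle x hx).1 (hle x hx).2),
      show (l.map fun x => A.β (lettersB x)) = (l.map lettersB).map A.β by rw [List.map_map]; rfl,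
      ← map_list_prod, b_rels l hl, map_one]
  have hcm : ∀ a b : G, Commute a b → a * (b * (a⁻¹ * (b⁻¹ * 1))) = 1 := fun a b h => by
    rw [mul_one, ← mul_assoc, ← mul_assoc, h.eq]; group
  have hzi : D.z⁻¹ = D.z := inv_eq_of_mul_eq_one_right (CfsgLib.Invol.mul_self_eq_one D.ht.hz)
  have hvi : A.vI⁻¹ = A.vI := inv_eq_of_mul_eq_one_right hv2
  have hpi : (A.β p0)⁻¹ = A.β p0 := inv_eq_of_mul_eq_one_right hp2
  have hd1 : ∀ k : ℕ, A.β (d0 ^ k) = (A.β d0) ^ k := map_pow A.β d0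
  have hu : ∀ i : Fin 5, A.vv i = (A.β d0) ^ i.val * A.vI * ((A.β d0) ^ i.val)⁻¹ := fun i => by
    rw [← hd1]; rfl
  have h55 : A.β d0 ^ 5 = 1 := by rw [← map_pow, d0_pow.1, map_one]
  intro l hl
  rw [rels] at hl
  simp only [List.mem_cons, List.not_mem_nil, or_false] at hl
  show (l.map g).prod = 1
  rcases hl with rfl | rfl | rfl | rfl | rfl | rfl | rfl | rfl | rfl | rfl | rfl | rfl | rfl | rfl | rfl | rfl | rfl
  · exact hBr _ (by simp)
  · simp only [hg, sysLetters, letters, List.map, List.prod_cons, List.prod_nil]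
    have := hcm _ _ (A.hp d0); rwa [hpi] at this
  · simp only [hg, sysLetters, letters, List.map, List.prod_cons, List.prod_nil]
    exact hcm _ _ (A.hq d0)
  · simp only [hg, sysLetters, letters, List.map, List.prod_cons, List.prod_nil]
    have := hcm _ _ (A.z_comm p0); rwa [hpi, hzi] at this
  · simp only [hg, sysLetters, letters, List.map, List.prod_cons, List.prod_nil]
    have := hcm _ _ (A.z_comm q0); rwa [hzi] at this
  · simp only [hg, sysLetters, letters, List.map, List.prod_cons, List.prod_nil]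
    have := hcm _ _ (A.hp p0); rwa [hpi, show (A.α p0)⁻¹ = A.vI from hvi] at this
  · simp only [hg, sysLetters, letters, List.map, List.prod_cons, List.prod_nil]
    have := hcm _ _ (A.hq p0); rwa [show (A.α p0)⁻¹ = A.vI from hvi] at this
  · simp only [hg, sysLetters, letters, List.map, List.prod_cons, List.prod_nil]
    exact hcm _ _ (A.hd d0)
  · simp only [hg, sysLetters, letters, List.map, List.prod_cons, List.prod_nil]
    have := hcm _ _ (A.z_comm d0); rwa [hzi] at this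
  · exact hAr _ (by simp)
  · exact hBr _ (by simp)
  · exact hAr _ (by simp)
  · exact hBr _ (by simp)
  · simp only [hg, sysLetters, letters, List.map, List.prod_cons, List.prod_nil]
    have h := vv_anti D A (show (0 : Fin 5) ≠ 1 by decide)
    have hs := vv_sq D A 0
    have hs1 := vv_sq D A 1
    have hzz := CfsgLib.Invol.mul_self_eq_one D.ht.hz
    have hk : A.vv 0 * A.vv 1 * (A.vv 0 * A.vv 1) = D.z := by
      nth_rw 1 [h]
      rw [show D.z * (A.vv 1 * A.vv 0) * (A.vv 0 * A.vv 1) = D.z * (A.vv 1 * (A.vv 0 * A.vv 0) * A.vv 1) by group,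
        hs, mul_one, hs1, mul_one]
    rw [hu 0, hu 1] at hk
    simp only [Fin.val_zero, Fin.val_one, pow_zero, pow_one, one_mul, inv_one, mul_one] at hk
    calc _ = A.vI * (A.β d0 * A.vI * (A.β d0)⁻¹) * (A.vI * (A.β d0 * A.vI * (A.β d0)⁻¹)) * D.z := by group
      _ = 1 := by rw [hk, hzz]
  · exact hAr _ (by simp)
  · simp only [hg, sysLetters, letters, List.map, List.prod_cons, List.prod_nil]
    have h := hπ
    unfold prodV at h
    rw [hu 0, hu 1, hu 2, hu 3, hu 4] at h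
    simp only [show ((0 : Fin 5)).val = 0 from rfl, show ((1 : Fin 5)).val = 1 from rfl,
      show ((2 : Fin 5)).val = 2 from rfl, show ((3 : Fin 5)).val = 3 from rfl,
      show ((4 : Fin 5)).val = 4 from rfl] at h
    refine Eq.trans ?_ h
    group
  · simp only [hg, sysLetters, letters, List.map, List.prod_cons, List.prod_nil]
    have h := twist D A hπ
    rw [← mul_inv_eq_one, ← t14_eq] at h
    rw [hu 1, hu 2, hu 3, show A.α a0 = A.α d0 * A.α d0 * A.α p0 * (A.α d0)⁻¹ by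
      simp only [a0, map_mul, map_inv]] at h
    simp only [map_mul, map_inv, show A.α p0 = A.vI from rfl, show ((1 : Fin 5)).val = 1 from rfl,
      show ((2 : Fin 5)).val = 2 from rfl, show ((3 : Fin 5)).val = 3 from rfl, mul_inv_rev, inv_inv,
      hvi, hpi] at h
    simp only [pow_succ, pow_zero, one_mul, mul_inv_rev, inv_inv] at h
    refine Eq.trans ?_ h
    group

include D in
/-- A group of Hall–Janko type is the Hall–Janko permutation group. -/
theorem iso_of_data : Nonempty (G ≃* CfsgLib.J2Perm.J2sub) := by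
  obtain ⟨A, hπ⟩ := exists_normal_amal D
  exact iso_of_system (isSystem D A hπ)
    (fun h => d0_pow.2.1 (A.hα (h.trans (map_one A.α).symm))) D.hG

end CfsgLib.JTwoRecog
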