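import Mathlib.GroupTheory.SpecificGroups.Alternating
import Mathlib.Data.Fintype.Perm
import Mathlib.Tactic

/-!
# Facts about the alternating groups of degree 4 and 5 used in the amalgam of the Hall–Janko group
-/

set_option autoImplicit false
set_option maxRecDepth 8000

namespace CfsgLib.JTwoRecog

open Equiv

/-- The alternating group of degree 5. -/
abbrev A5 : Type := alternatingGroup (Fin 5)

/-- The alternating group of degree 4. -/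
abbrev A4 : Type := alternatingGroup (Fin 4)

/-- The five-cycle `(0 1 2 3 4)`. -/
def d0 : A5 := ⟨swap 0 1 * swap 1 2 * swap 2 3 * swap 3 4, by rw [Perm.mem_alternatingGroup]; decide⟩

/-- The involution `(1 4)(2 3)` inverting `d0`. -/
def w0 : A5 := ⟨swap 1 4 * swap 2 3, by rw [Perm.mem_alternatingGroup]; decide⟩

/-- The involution `(1 2)(3 4)`. -/
def p0 : A5 := ⟨swap 1 2 * swap 3 4, by rw [Perm.mem_alternatingGroup]; decide⟩

/-- The three-cycle `(1 2 3)`. -/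
def q0 : A5 := ⟨swap 1 2 * swap 2 3, by rw [Perm.mem_alternatingGroup]; decide⟩

/-- The odd permutation `(2 3)` used to change the sign of a product. -/
def sigma : Perm (Fin 5) := swap 2 3

/-- An element of order three permuting the four-group containing `w0` and `p0`. -/
def a0 : A5 := d0 * d0 * p0 * d0⁻¹

/-- An involution `(0 1)(2 3)` of degree 4. -/
def p4 : A4 := ⟨swap 0 1 * swap 2 3, by rw [Perm.mem_alternatingGroup]; decide⟩

/-- A three-cycle `(0 1 2)` of degree 4. -/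
def q4 : A4 := ⟨swap 0 1 * swap 1 2, by rw [Perm.mem_alternatingGroup]; decide⟩

theorem d0_pow : d0 ^ 5 = 1 ∧ d0 ≠ 1 ∧ w0 * w0 = 1 ∧ w0 ≠ 1 ∧ w0 * d0 * w0 = d0⁻¹ := by decide +kernel

theorem p4_facts : p4 * p4 = 1 ∧ p4 ≠ 1 ∧ q4 ^ 3 = 1 ∧ q4 ≠ 1 ∧ (p4 * q4) ^ 3 = 1 := by decide +kernel

theorem a4_normal_gen : ∀ x : A4, x ≠ 1 → ∀ v : A4, v * v = 1 →
    ∃ a b : A4, a * x * a⁻¹ * (b * x⁻¹ * b⁻¹) = v := by decide +kernel

theorem a4_invol_count : (Finset.univ.filter fun v : A4 => v * v = 1 ∧ v ≠ 1).card = 3 := by decide +kernel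

/-- Some permutation fixing `0` carries the pair to the standard one. -/
def alignB (p q : A5) : Bool :=
  decide (∃ s : Perm (Fin 5), s 0 = 0 ∧ s * (p : Perm (Fin 5)) * s⁻¹ = (p0 : Perm (Fin 5)) ∧
    s * (q : Perm (Fin 5)) * s⁻¹ = (q0 : Perm (Fin 5)))

theorem alignB_true : ∀ p q : A5, (p * p = 1 ∧ p ≠ 1 ∧ (p : Perm (Fin 5)) 0 = 0) →
    (q ^ 3 = 1 ∧ q ≠ 1 ∧ (q : Perm (Fin 5)) 0 = 0) → alignB p q = true := by decide +kernel

theorem exists_align {p q : A5} (hp : p * p = 1) (hp1 : p ≠ 1) (hp0 : (p : Perm (Fin 5)) 0 = 0)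
    (hq : q ^ 3 = 1) (hq1 : q ≠ 1) (hq0 : (q : Perm (Fin 5)) 0 = 0) :
    ∃ s : Perm (Fin 5), s 0 = 0 ∧ s * (p : Perm (Fin 5)) * s⁻¹ = (p0 : Perm (Fin 5)) ∧
      s * (q : Perm (Fin 5)) * s⁻¹ = (q0 : Perm (Fin 5)) :=
  of_decide_eq_true (alignB_true p q ⟨hp, hp1, hp0⟩ ⟨hq, hq1, hq0⟩)

theorem lift_unique : ∀ x : A5, x ^ 5 = 1 → p0 * q0 * x * q0 * x⁻¹ = 1 →
    p0 * q0 * x⁻¹ * q0⁻¹ * x * x = 1 → x = d0 := by decide +kernel

theorem lift_rels : p0 * q0 * d0 * q0 * d0⁻¹ = 1 ∧ p0 * q0 * d0⁻¹ * q0⁻¹ * d0 * d0 = 1 := by decide +kernel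

theorem stab_zero : ∀ b : A5, (b : Perm (Fin 5)) 0 = 0 →
    ∃ i < 2, ∃ j < 3, ∃ k < 2, b = p0 ^ i * q0 ^ j * (q0 * p0 * q0⁻¹) ^ k ∨
      b = p0 ^ i * (q0 * p0 * q0⁻¹) ^ k * q0 ^ j := by decide +kernel

theorem d0_point : ∀ i : Fin 5, (((d0 ^ i.val : A5) : Perm (Fin 5)) 0 = i) := by decide +kernel

theorem sigma_facts : sigma 0 = 0 ∧ sigma * (p0 : Perm (Fin 5)) * sigma⁻¹ = ((q0⁻¹ * p0 * q0 : A5) : Perm (Fin 5)) ∧
    sigma * (q0 : Perm (Fin 5)) * sigma⁻¹ = ((q0⁻¹ : A5) : Perm (Fin 5)) := by decide +kernel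

theorem a0_facts : a0 * w0 * a0⁻¹ = p0 ∧ a0 * p0 * a0⁻¹ = w0 * p0 ∧ w0 * p0 = p0 * w0 := by decide +kernel

end CfsgLib.JTwoRecog
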