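import Cfsg.Agent.Lib.JTwoRecog.Amal.Alt
import Cfsg.Agent.Lib.JTwoType.FiveSide
import Cfsg.Agent.Lib.J2Type.Normalizer

/-!
# The two alternating groups of the amalgam inside a group of Hall–Janko type
-/

set_option autoImplicit false
set_option linter.style.haveILetI false

namespace CfsgLib.JTwoRecog

open Subgroup CfsgLib.JTwoType
open CfsgLib.JTwoType.Data (mem_cent)

universe u

/-- Two alternating groups of degree 5 meeting as in the Hall–Janko group, the first through the involution `z`. -/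
structure Amal {G : Type u} [Group G] (z : G) where
  α : A5 →* G
  β : A5 →* G
  hα : Function.Injective α
  hβ : Function.Injective β
  hp : ∀ a, Commute (α a) (β p0)
  hq : ∀ a, Commute (α a) (β q0)
  hd : ∀ b, Commute (α d0) (β b)
  hw : ∀ b, Commute (α w0) (β b)
  hz : α w0 = z
  hv : IsConj (α p0) z

variable {G : Type u} [Group G] [Finite G]

omit [Finite G] in
/-- The alternating group is generated by the standard elements. -/
theorem closure_alt (R : Subgroup A5) (hp : p0 ∈ R) (hq : q0 ∈ R) (hd : d0 ∈ R) : R = ⊤ := by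
  rw [eq_top_iff]
  intro x _
  have hx : x = d0 ^ ((x : Equiv.Perm (Fin 5)) 0).val * ((d0 ^ ((x : Equiv.Perm (Fin 5)) 0).val)⁻¹ * x) := by
    group
  rw [hx]
  refine R.mul_mem (R.pow_mem hd _) ?_
  have h0 : (((d0 ^ ((x : Equiv.Perm (Fin 5)) 0).val)⁻¹ * x : A5) : Equiv.Perm (Fin 5)) 0 = 0 := by
    rw [Subgroup.coe_mul, InvMemClass.coe_inv, Equiv.Perm.mul_apply]
    conv_lhs => arg 2; rw [← d0_point ((x : Equiv.Perm (Fin 5)) 0)]
    rw [Equiv.Perm.inv_def, Equiv.symm_apply_apply]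
  obtain ⟨i, -, j, -, k, -, h | h⟩ := stab_zero _ h0 <;> rw [h] <;>
    first
      | exact R.mul_mem (R.mul_mem (R.pow_mem hp _) (R.pow_mem hq _))
          (R.pow_mem (R.mul_mem (R.mul_mem hq hp) (R.inv_mem hq)) _)
      | exact R.mul_mem (R.mul_mem (R.pow_mem hp _) (R.pow_mem (R.mul_mem (R.mul_mem hq hp) (R.inv_mem hq)) _))
          (R.pow_mem hq _)

/-- A group of Hall–Janko type contains the amalgam. -/
theorem exists_amal (D : CfsgLib.JTwoType.Data G) : Nonempty (Amal D.z) := by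
  classical
  haveI : Fact (Nat.Prime 2) := ⟨Nat.prime_two⟩
  set C := centralizer ({D.t} : Set G) with hC
  set N := normalizer (((Cfsg.pCore 2 ↥C).map C.subtype : Subgroup G) : Set G) with hN
  obtain ⟨-, ⟨E⟩⟩ := CfsgLib.J2Type.ct_structure D.ht D.tCard
  change ↥N ≃* A4 × A5 at E
  have hBN : D.B ≤ N := by
    intro b hb
    refine mem_normalizer_fintype ?_
    rintro x ⟨y, hy, rfl⟩
    exact ⟨⟨b, D.b_le hb⟩ * y * ⟨b, D.b_le hb⟩⁻¹, (CfsgLib.Solvable.pCore_normal 2 _).conj_mem y hy _, rfl⟩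
  let γ : A4 →* G := N.subtype.comp (E.symm.toMonoidHom.comp (MonoidHom.inl A4 A5))
  let α : A5 →* G := N.subtype.comp (E.symm.toMonoidHom.comp (MonoidHom.inr A4 A5))
  have hmix : ∀ x y, γ x * α y = N.subtype (E.symm (x, y)) := fun x y => by
    show N.subtype (E.symm (x, 1)) * N.subtype (E.symm (1, y)) = _
    rw [← map_mul, ← map_mul, Prod.mk_mul_mk, mul_one, one_mul]
  have hinj : ∀ x y, γ x * α y = 1 → x = 1 ∧ y = 1 := fun x y h => by
    rw [hmix] at h
    have h2 : E.symm (x, y) = E.symm 1 := by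
      rw [map_one]; exact N.subtype_injective (h.trans (map_one _).symm)
    exact Prod.mk.injEq _ _ _ _ ▸ E.symm.injective h2
  have hαinj : Function.Injective α := (injective_iff_map_eq_one α).2 fun y h =>
    (hinj 1 y (by rw [map_one, one_mul, h])).2
  have hcomm : ∀ x y, Commute (α y) (γ x) := fun x y =>
    ((show Commute ((1, y) : A4 × A5) (x, 1) from Prod.ext (by simp) (by simp)).map E.symm.toMonoidHom).map
      N.subtype
  obtain ⟨e⟩ := D.ht.hB
  have hαB : ∀ y, α y ∈ D.B := by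
    haveI : Nontrivial ↥D.B := e.toEquiv.nontrivial
    haveI : IsSimpleGroup ↥D.B :=
      IsSimpleGroup.isSimpleGroup_of_surjective (G := A5) (H := ↥D.B) e.symm.toMonoidHom e.symm.surjective
    let φ : ↥D.B →* A4 := (MonoidHom.fst A4 A5).comp (E.toMonoidHom.comp (inclusion hBN))
    have hker : φ.ker = ⊤ := (φ.normal_ker.eq_bot_or_eq_top).resolve_left fun hbot => by
      have := Nat.card_le_card_of_injective φ ((MonoidHom.ker_eq_bot_iff φ).1 hbot)
      rw [D.bCard, Nat.card_eq_fintype_card,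
        show Fintype.card A4 = 12 by decide +kernel] at this
      omega
    have hle : D.B ≤ α.range := fun b hb => by
      have h1 : (E ⟨b, hBN hb⟩).1 = 1 := MonoidHom.mem_ker.1 (hker ▸ mem_top (⟨b, hb⟩ : ↥D.B))
      refine ⟨(E ⟨b, hBN hb⟩).2, ?_⟩
      show N.subtype (E.symm (1, (E ⟨b, hBN hb⟩).2)) = b
      rw [show ((1 : A4), (E ⟨b, hBN hb⟩).2) = E ⟨b, hBN hb⟩ from Prod.ext h1.symm rfl, E.symm_apply_apply]
      rfl
    have heq : D.B = α.range := eq_of_le_of_card_ge hle (by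
      rw [← Nat.card_congr (MonoidHom.ofInjective hαinj).toEquiv, D.bCard, Nat.card_eq_fintype_card,
        show Fintype.card A5 = 60 by decide +kernel])
    intro y
    rw [heq]
    exact ⟨y, rfl⟩
  set d := α d0 with hd
  set w := α w0 with hw
  obtain ⟨hd5, hd1, hw2, hw1, hwd⟩ := d0_pow
  haveI : Fact (Nat.Prime 5) := ⟨by norm_num⟩
  have hdo : orderOf d = 5 := by
    rw [hd, orderOf_injective α hαinj]
    exact orderOf_eq_prime hd5 hd1
  have hwdd : w * d * w⁻¹ = d⁻¹ := by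
    rw [hw, hd, ← map_inv, ← map_mul, ← map_mul, ← map_inv, inv_eq_of_mul_eq_one_right hw2, hwd]
  have hdB : d ∈ D.B := hαB d0
  set H := centralizer ({d} : Set G) with hH
  have h300 : Nat.card H = 300 := (D.card_cent_five hdB hdo).1
  have hk5 : ∀ k : ↥(zpowers d0), (k : A5) ^ 5 = 1 := by
    rintro ⟨k, hk⟩
    obtain ⟨i, rfl⟩ := mem_zpowers_iff.1 hk
    show (d0 ^ i) ^ 5 = 1
    rw [← zpow_natCast, ← zpow_mul, mul_comm, zpow_mul, zpow_natCast, hd5, one_zpow]
  have hkd : ∀ k : ↥(zpowers d0), Commute (α k) d := fun k => by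
    obtain ⟨i, hi⟩ := mem_zpowers_iff.1 k.2
    rw [hd, ← hi, map_zpow]
    exact Commute.zpow_self _ _
  let θ : A4 × ↥(zpowers d0) →* H :=
    { toFun := fun p => ⟨γ p.1 * α p.2, mem_cent.2 ((hcomm p.1 d0).symm.mul_left (hkd p.2))⟩
      map_one' := Subtype.ext (by simp)
      map_mul' := fun a b => Subtype.ext (by
        show γ (a.1 * b.1) * α ((a.2 : A5) * b.2) = γ a.1 * α a.2 * (γ b.1 * α b.2)
        rw [map_mul, map_mul, mul_assoc, ← mul_assoc (γ b.1), ← (hcomm b.1 (a.2 : A5)).eq]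
        group) }
  have hθinj : Function.Injective θ := (injective_iff_map_eq_one θ).2 fun p hp => by
    obtain ⟨h1, h2⟩ := hinj p.1 p.2 (congrArg Subtype.val hp)
    exact Prod.ext h1 (Subtype.ext h2)
  have hzc : Nat.card ↥(zpowers d0) = 5 := by
    rw [Nat.card_zpowers, orderOf_eq_prime hd5 hd1]
  set H1 := θ.range with hH1
  have hH1card : Nat.card H1 = 60 := by
    rw [← Nat.card_congr (MonoidHom.ofInjective hθinj).toEquiv, Nat.card_prod, hzc, Nat.card_eq_fintype_card,
      show Fintype.card A4 = 12 by decide +kernel]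
  have hidx : H1.index = 5 := by
    have := H1.card_mul_index
    rw [hH1card, h300] at this
    omega
  obtain ⟨hp2, hp1, hq3, hq1, hpq3⟩ := p4_facts
  -- the kernel of the action on the five cosets
  have hcore_le : ∀ x k, θ (x, k) ∈ H1.normalCore → x = 1 := by
    intro x k hxk
    by_contra hx1
    obtain ⟨a, b, hab⟩ := a4_normal_gen x hx1 p4 hp2
    have hmem : θ (p4, 1) ∈ H1.normalCore := by
      have he : ((p4, 1) : A4 × ↥(zpowers d0)) =
          (a, 1) * (x, k) * (a, 1)⁻¹ * ((b, 1) * (x, k)⁻¹ * (b, 1)⁻¹) := by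
        refine Prod.ext hab.symm ?_
        simp
      rw [he, map_mul, map_mul, map_mul, map_mul, map_mul, map_inv, map_inv, map_inv]
      exact mul_mem (H1.normalCore_normal.conj_mem _ hxk _)
        (H1.normalCore_normal.conj_mem _ (inv_mem hxk) _)
    set s := γ p4 with hs
    have hs' : (θ (p4, 1) : G) = s := by
      show γ p4 * α ((1 : ↥(zpowers d0)) : A5) = s
      rw [OneMemClass.coe_one, map_one, mul_one]
    have hs2 : orderOf s = 2 := by
      refine CfsgLib.Invol.orderOf_eq_two (fun h => hp1 (hinj p4 1 (by rw [map_one, mul_one, ← hs, h])).1) ?_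
      rw [hs, ← map_mul, hp2, map_one]
    have hsd : Commute s d := (hcomm p4 d0).symm
    obtain ⟨g, hgd, hg⟩ := D.invol_conj_t hdB (Or.inr rfl) hdo hs2 hsd
    have hgd' : g * d * g⁻¹ = d := mul_inv_eq_iff_eq_mul.2 hgd.eq
    have hst : Nat.card (H ⊓ centralizer ({s} : Set G) : Subgroup G) = 20 := by
      rw [← show Nat.card (centralizer ({d} : Set G) ⊓ centralizer ({D.t} : Set G) : Subgroup G) = 20 from
        (D.card_cent_inf_of_mem_B hdB (Or.inr rfl) hdo).1]
      refine Nat.card_congr ((MulAut.conj g).toEquiv.subtypeEquiv fun a => ?_)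
      show a ∈ H ⊓ _ ↔ g * a * g⁻¹ ∈ _ ⊓ _
      rw [mem_inf, mem_inf, hH, ← hg]
      refine and_congr ?_ (mem_cent.trans ((Commute.conj_iff g).symm.trans mem_cent.symm))
      rw [mem_cent, mem_cent]
      conv_rhs => rw [← hgd']
      exact (Commute.conj_iff g).symm
    have horb := CfsgLib.J2Type.card_conj_image H s
    rw [hst, h300] at horb
    have hle3 : Nat.card {y : G // ∃ h ∈ H, h * s * h⁻¹ = y} ≤ 3 := by
      set S := (Finset.univ.filter fun v : A4 => v * v = 1 ∧ v ≠ 1).image γ with hS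
      refine le_trans ?_ (Finset.card_image_le.trans a4_invol_count.le : S.card ≤ 3)
      rw [← Nat.card_eq_finsetCard]
      refine Nat.card_le_card_of_injective (fun y => ⟨y.1, ?_⟩) fun a b hab =>
          Subtype.ext (congrArg Subtype.val hab :)
      obtain ⟨h, hh, hy⟩ := y.2
      have hh1 : (⟨h, hh⟩ : H) * θ (p4, 1) * (⟨h, hh⟩ : H)⁻¹ ∈ H1 :=
        H1.normalCore_le (H1.normalCore_normal.conj_mem _ hmem _)
      obtain ⟨⟨x', k'⟩, hx'⟩ := hh1
      have hsq : (x', k') * (x', k') = (1 : A4 × ↥(zpowers d0)) := by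
        refine hθinj ?_
        rw [map_mul, map_one, hx']
        have he : θ (p4, 1) * θ (p4, 1) = 1 := by
          rw [← map_mul, Prod.mk_mul_mk, hp2, one_mul]; exact map_one θ
        calc _ = (⟨h, hh⟩ : H) * (θ (p4, 1) * θ (p4, 1)) * (⟨h, hh⟩ : H)⁻¹ := by group
          _ = 1 := by rw [he]; group
      have hk' : k' = 1 := by
        refine Subtype.ext ?_
        have h2 : (k' : A5) * k' = 1 := congrArg Subtype.val (congrArg Prod.snd hsq)
        calc (k' : A5) = (k' : A5) ^ 5 * ((k' : A5) * k')⁻¹ * ((k' : A5) * k')⁻¹ := by group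
          _ = 1 := by rw [hk5, h2]; simp
      have hyx : y.1 = γ x' := by
        rw [← hy, ← hs']
        have h3 := congrArg Subtype.val hx'
        rw [hk'] at h3
        refine h3.symm.trans ?_
        show γ x' * α ((1 : ↥(zpowers d0)) : A5) = γ x'
        rw [OneMemClass.coe_one, map_one, mul_one]
      rw [hyx]
      refine Finset.mem_image_of_mem _ (Finset.mem_filter.2 ⟨Finset.mem_univ _, congrArg Prod.fst hsq, ?_⟩)
      rintro rfl
      rw [map_one] at hyx
      have : s = 1 := conj_eq_one_iff.1 (hy.trans hyx)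
      exact CfsgLib.Invol.ne_one_of_invol hs2 this
    have := Nat.mul_le_mul_right 20 hle3
    omega
  -- the quotient by `d`
  have hq5 : Nat.card (H ⧸ H1) = 5 := by rw [← index_eq_card, hidx]
  haveI := Fintype.ofFinite (H ⧸ H1)
  let e₀ : (H ⧸ H1) ≃ Fin 5 := Fintype.equivFinOfCardEq (by rw [← Nat.card_eq_fintype_card, hq5])
  let e₁ : (H ⧸ H1) ≃ Fin 5 := e₀.trans (Equiv.swap (e₀ ((1 : H) : H ⧸ H1)) 0)
  let π : H →* Equiv.Perm (Fin 5) := e₁.permCongrHom.toMonoidHom.comp (MulAction.toPermHom H (H ⧸ H1))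
  have hπker : π.ker = H1.normalCore := by
    rw [normalCore_eq_ker]
    ext h
    rw [MonoidHom.mem_ker, MonoidHom.mem_ker]
    exact MulEquiv.map_eq_one_iff e₁.permCongrHom
  have hπ0 : ∀ h ∈ H1, π h 0 = 0 := fun h hh => by
    have h1 : e₁ ((1 : H) : H ⧸ H1) = 0 := by simp [e₁]
    show e₁ (MulAction.toPermHom H (H ⧸ H1) h (e₁.symm 0)) = 0
    rw [show e₁.symm 0 = ((1 : H) : H ⧸ H1) by rw [← h1, Equiv.symm_apply_apply]]
    show e₁ ((h * 1 : H) : H ⧸ H1) = 0
    rw [mul_one, show ((h : H) : H ⧸ H1) = ((1 : H) : H ⧸ H1) from QuotientGroup.eq.2 (by simpa using hh), h1]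
  have hker : ∀ h : H, π h = 1 ↔ (h : G) ∈ zpowers d := by
    intro h
    rw [← MonoidHom.mem_ker, hπker]
    constructor
    · intro hh
      obtain ⟨⟨x, k⟩, rfl⟩ := H1.normalCore_le hh
      obtain rfl : x = 1 := hcore_le x k hh
      obtain ⟨i, hi⟩ := mem_zpowers_iff.1 k.2
      refine mem_zpowers_iff.2 ⟨i, ?_⟩
      show d ^ i = γ 1 * α k
      rw [map_one, one_mul, hd, ← map_zpow, hi]
    · intro hh
      obtain ⟨i, hi⟩ := mem_zpowers_iff.1 hh
      have hle : zpowers (⟨d, mem_cent.2 (Commute.refl d)⟩ : H) ≤ H1 :=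
        zpowers_le.2 ⟨(1, ⟨d0, mem_zpowers d0⟩), Subtype.ext (by show γ 1 * α d0 = d; rw [map_one, one_mul, hd])⟩
      haveI : (zpowers (⟨d, mem_cent.2 (Commute.refl d)⟩ : H)).Normal := ⟨fun n hn g => by
        have hc : Commute g (⟨d, mem_cent.2 (Commute.refl d)⟩ : H) := Subtype.ext (mem_cent.1 g.2).eq
        obtain ⟨j, rfl⟩ := mem_zpowers_iff.1 hn
        rw [(hc.zpow_right j).eq, mul_inv_cancel_right]
        exact zpow_mem (mem_zpowers _) j⟩
      refine (normal_le_normalCore.2 hle) (mem_zpowers_iff.2 ⟨i, Subtype.ext ?_⟩)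
      rw [SubgroupClass.coe_zpow]; exact hi
  have hr : π.range = alternatingGroup (Fin 5) := by
    refine Equiv.Perm.eq_alternatingGroup_of_index_eq_two ?_
    have h5 : Nat.card π.ker = 5 := by
      refine Eq.trans ?_ ((Nat.card_zpowers d).trans hdo)
      exact Nat.card_congr
        { toFun := fun h => ⟨(h : H), (hker _).1 h.2⟩
          invFun := fun x => ⟨⟨x, mem_cent.2 (by
            obtain ⟨i, hi⟩ := mem_zpowers_iff.1 x.2
            rw [← hi]; exact Commute.zpow_self d i)⟩, (hker _).2 x.2⟩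
          left_inv := fun h => rfl
          right_inv := fun x => rfl }
    have h1 := π.ker.card_mul_index
    rw [index_ker, h5, h300] at h1
    have h2 := π.range.card_mul_index
    rw [Nat.card_perm, Nat.card_fin, show (5 : ℕ).factorial = 120 by decide,
      show Nat.card π.range = 60 by omega] at h2
    omega
  let ψ₀ : H →* A5 := π.codRestrict _ fun h => hr ▸ ⟨h, rfl⟩
  have hψ0s : Function.Surjective ψ₀ := fun x => by
    obtain ⟨h, hh⟩ : (x : Equiv.Perm (Fin 5)) ∈ π.range := hr.symm ▸ x.2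
    exact ⟨h, Subtype.ext hh⟩
  have hψ0k : ∀ h : H, ψ₀ h = 1 ↔ (h : G) ∈ zpowers d := fun h =>
    (Subtype.ext_iff (a1 := ψ₀ h) (a2 := 1)).trans (hker h)
  set p : H := θ (p4, 1) with hp
  set q : H := θ (q4, 1) with hq
  have hne : ∀ x : A4, x ≠ 1 → ψ₀ (θ (x, 1)) ≠ 1 := fun x hx h => hx (hcore_le x 1 (by
    rw [← hπker, MonoidHom.mem_ker]; exact congrArg Subtype.val h))
  obtain ⟨s, hs0, hsp, hsq⟩ := exists_align (p := ψ₀ p) (q := ψ₀ q)
    (by rw [← map_mul, hp, ← map_mul, Prod.mk_mul_mk, hp2, one_mul]; exact (congrArg ψ₀ (map_one θ)).trans (map_one ψ₀))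
    (hne p4 hp1) (hπ0 _ ⟨_, rfl⟩)
    (by rw [← map_pow, hq, ← map_pow, Prod.pow_mk, hq3, one_pow]; exact (congrArg ψ₀ (map_one θ)).trans (map_one ψ₀))
    (hne q4 hq1) (hπ0 _ ⟨_, rfl⟩)
  let cs : MulAut A5 := MulAut.conjNormal s
  let ψ : H →* A5 := cs.toMonoidHom.comp ψ₀
  have hψk : ∀ h : H, ψ h = 1 ↔ (h : G) ∈ zpowers d := fun h =>
    (MulEquiv.map_eq_one_iff cs).trans (hψ0k h)
  have hψs : Function.Surjective ψ := cs.surjective.comp hψ0s
  have hψp : ψ p = p0 := Subtype.ext hsp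
  have hψq : ψ q = q0 := Subtype.ext hsq
  -- conjugation by `w`
  have hωmem : ∀ h : H, w * h * w⁻¹ ∈ H := fun h => by
    refine mem_cent.2 ?_
    have h1 := (Commute.conj_iff w).2 (mem_cent.1 h.2)
    rw [hwdd] at h1
    simpa using h1.inv_right
  let ω : H →* H :=
    { toFun := fun h => ⟨w * h * w⁻¹, hωmem h⟩
      map_one' := Subtype.ext (by simp)
      map_mul' := fun a b => Subtype.ext (by show w * ((a : G) * b) * w⁻¹ = _; simp [mul_assoc]) }
  have hωfix : ∀ x : A4, ω (θ (x, 1)) = θ (x, 1) := fun x => Subtype.ext (by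
    show w * (γ x * α ((1 : ↥(zpowers d0)) : A5)) * w⁻¹ = γ x * α ((1 : ↥(zpowers d0)) : A5)
    rw [OneMemClass.coe_one, map_one, mul_one, hw, (hcomm x w0).eq, mul_inv_cancel_right])
  have hωd : ∀ h : H, ∀ i : ℤ, (h : G) = d ^ i → ((ω h : H) : G) = d ^ (-i) := fun h i hi => by
    show w * (h : G) * w⁻¹ = _
    rw [hi, ← conj_zpow, hwdd, inv_zpow, zpow_neg]
  have hωk : ∀ h : H, ψ h = 1 → ψ (ω h) = 1 := fun h hh => by
    obtain ⟨i, hi⟩ := mem_zpowers_iff.1 ((hψk h).1 hh)
    exact (hψk _).2 (mem_zpowers_iff.2 ⟨-i, (hωd h i hi.symm).symm⟩)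
  obtain ⟨c, hc⟩ := hψs d0
  have hωp : ω p = p := hωfix p4
  have hωq : ω q = q := hωfix q4
  have hψωc : ψ (ω c) = d0 := by
    refine lift_unique _ ?_ ?_ ?_
    · rw [← map_pow, ← map_pow]
      exact hωk _ (by rw [map_pow, hc, hd5])
    · have h := hωk (p * q * c * q * c⁻¹) (by simp only [map_mul, map_inv, hψp, hψq, hc]; exact lift_rels.1)
      simpa only [map_mul, map_inv, hωp, hωq, hψp, hψq] using h
    · have h := hωk (p * q * c⁻¹ * q⁻¹ * c * c) (by simp only [map_mul, map_inv, hψp, hψq, hc]; exact lift_rels.2)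
      simpa only [map_mul, map_inv, hωp, hωq, hψp, hψq] using h
  obtain ⟨j, hj⟩ := mem_zpowers_iff.1 ((hψk (c⁻¹ * ω c)).1 (by rw [map_mul, map_inv, hψωc, hc, inv_mul_cancel]))
  let dd : H := ⟨d, mem_cent.2 (Commute.refl d)⟩
  set e' : H := c * dd ^ (3 * j) with he'
  have hψdd : ψ dd = 1 := (hψk _).2 (mem_zpowers _)
  have hψe : ψ e' = d0 := by rw [he', map_mul, map_zpow, hψdd, one_zpow, mul_one, hc]
  have hωe : ω e' = e' := by
    refine Subtype.ext ?_
    rw [he', map_mul]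
    show ((ω c : H) : G) * ((ω (dd ^ (3 * j)) : H) : G) = (c : G) * ((dd ^ (3 * j) : H) : G)
    rw [hωd (dd ^ (3 * j)) (3 * j) (SubgroupClass.coe_zpow dd _), SubgroupClass.coe_zpow,
      show ((ω c : H) : G) = (c : G) * d ^ j by
        rw [hj]; show _ = (c : G) * ((c : G)⁻¹ * ((ω c : H) : G)); rw [mul_inv_cancel_left],
      mul_assoc, ← zpow_add]
    congr 1
    rw [show j + -(3 * j) = 3 * j + (5 : ℤ) * (-j) by ring, zpow_add,
      show d ^ ((5 : ℤ) * (-j)) = 1 by
        rw [zpow_mul, show (5 : ℤ) = ((5 : ℕ) : ℤ) from rfl, zpow_natCast, ← hdo, pow_orderOf_eq_one, one_zpow],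
      mul_one]
  set C0 := MonoidHom.eqLocus ω (MonoidHom.id H) with hC0
  let ρ : C0 →* A5 := ψ.comp C0.subtype
  have hρ : Function.Bijective ρ := by
    constructor
    · refine (injective_iff_map_eq_one ρ).2 fun h hh => Subtype.ext (Subtype.ext ?_)
      obtain ⟨i, hi⟩ := mem_zpowers_iff.1 ((hψk (h : H)).1 hh)
      have h1 := hωd (h : H) i hi.symm
      rw [show ω (h : H) = (h : H) from h.2, ← hi] at h1
      show ((h : H) : G) = 1
      have h5 : (d ^ i) ^ 5 = 1 := by
        rw [← zpow_natCast, ← zpow_mul, mul_comm, zpow_mul, zpow_natCast, ← hdo, pow_orderOf_eq_one, one_zpow]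
      have h2 : d ^ i * d ^ i = 1 := by
        nth_rw 1 [h1]
        rw [← zpow_add, neg_add_cancel, zpow_zero]
      rw [← hi]
      calc d ^ i = (d ^ i) ^ 5 * (d ^ i * d ^ i)⁻¹ * (d ^ i * d ^ i)⁻¹ := by group
        _ = 1 := by rw [h5, h2]; simp
    · refine MonoidHom.range_eq_top.1 (closure_alt _ ⟨⟨p, hωfix p4⟩, hψp⟩ ⟨⟨q, hωfix q4⟩, hψq⟩ ⟨⟨e', hωe⟩, hψe⟩)
  let E0 := MulEquiv.ofBijective ρ hρ
  let β : A5 →* G := H.subtype.comp (C0.subtype.comp E0.symm.toMonoidHom)
  have hβof : ∀ h : C0, β (ρ h) = ((h : H) : G) := fun h => by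
    show ((E0.symm (E0 h) : C0) : H).1 = _
    rw [E0.symm_apply_apply]
  have hβinj : Function.Injective β :=
    (Subtype.val_injective.comp Subtype.val_injective).comp E0.symm.injective
  have hcoe : ∀ x : A4, ((θ (x, 1) : H) : G) = γ x := fun x => by
    show γ x * α ((1 : ↥(zpowers d0)) : A5) = γ x
    rw [OneMemClass.coe_one, map_one, mul_one]
  have hβp : β p0 = γ p4 := by
    rw [← hψp, ← hcoe p4]; exact hβof ⟨p, hωfix p4⟩
  have hβq : β q0 = γ q4 := by
    rw [← hψq, ← hcoe q4]; exact hβof ⟨q, hωfix q4⟩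
  have hβd : ∀ b, Commute d (β b) := fun b => (mem_cent.1 (E0.symm b : C0).1.2).symm
  have hβw : ∀ b, Commute w (β b) := fun b => by
    have h1 : w * ((E0.symm b : C0) : H).1 * w⁻¹ = ((E0.symm b : C0) : H).1 :=
      congrArg Subtype.val (E0.symm b).2
    exact mul_inv_eq_iff_eq_mul.1 h1
  -- move `w` to `z`
  obtain ⟨g, hg⟩ := isConj_iff.1 (D.ht.hBz w (hαB w0)
    (CfsgLib.Invol.orderOf_eq_two (fun h => hw1 (hαinj (h.trans (map_one α).symm)))
      (by rw [hw, ← map_mul, hw2, map_one])))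
  obtain ⟨hv2, hv1⟩ : p0 * p0 = 1 ∧ p0 ≠ (1 : A5) := by decide +kernel
  exact ⟨{ α := (MulAut.conj g).toMonoidHom.comp α
           β := (MulAut.conj g).toMonoidHom.comp β
           hα := (MulAut.conj g).injective.comp hαinj
           hβ := (MulAut.conj g).injective.comp hβinj
           hp := fun a => (hβp ▸ hcomm p4 a).map (MulAut.conj g).toMonoidHom
           hq := fun a => (hβq ▸ hcomm q4 a).map (MulAut.conj g).toMonoidHom
           hd := fun b => (hβd b).map (MulAut.conj g).toMonoidHom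
           hw := fun b => (hβw b).map (MulAut.conj g).toMonoidHom
           hz := hg
           hv := (isConj_iff.2 ⟨g, rfl⟩ : IsConj (α p0) _).symm.trans (D.ht.hBz _ (hαB p0)
             (CfsgLib.Invol.orderOf_eq_two (fun h => hv1 (hαinj (h.trans (map_one α).symm)))
               (by rw [← map_mul, hv2, map_one]))) }⟩

end CfsgLib.JTwoRecog
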