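import Cfsg.Agent.Lib.JTwoRecog.Amal.Alt

/-!
# A model of the extraspecial group with its alternating group of permutations of five involutions
-/

set_option autoImplicit false
set_option maxRecDepth 8000

namespace CfsgLib.JTwoRecog

open Equiv

/-- A code with one bit flipped. -/
def flipBit (k : ℕ) (n : Fin 32) : Fin 32 := ⟨(n.val ^^^ 2 ^ k) % 32, Nat.mod_lt _ (by norm_num)⟩

/-- Left multiplication of a normal form by one of the last four involutions. -/
def mulPos : ℕ → Fin 32 → Fin 32
  | 0, n => flipBit 0 n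
  | 1, n => if n.val % 2 = 1 then flipBit 4 (flipBit 1 n) else flipBit 1 n
  | 2, n => if (n.val % 2 + n.val / 2 % 2) % 2 = 1 then flipBit 4 (flipBit 2 n) else flipBit 2 n
  | _, n => if (n.val % 2 + n.val / 2 % 2 + n.val / 4 % 2) % 2 = 1 then flipBit 4 (flipBit 3 n) else flipBit 3 n

/-- Left multiplication by the central involution (`none`) or one of the five involutions. -/
def mulGen : Option (Fin 5) → Fin 32 → Fin 32
  | none, n => flipBit 4 n
  | some 0, n => mulPos 3 (mulPos 2 (mulPos 1 (mulPos 0 n)))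
  | some i, n => mulPos (i.val - 1) n

/-- The word of a normal form. -/
def wordN (n : Fin 32) : List (Option (Fin 5)) :=
  (if n.val / 16 % 2 = 1 then [none] else []) ++ (if n.val % 2 = 1 then [some 1] else []) ++
    (if n.val / 2 % 2 = 1 then [some 2] else []) ++ (if n.val / 4 % 2 = 1 then [some 3] else []) ++
    (if n.val / 8 % 2 = 1 then [some 4] else [])

/-- Left multiplication by a word. -/
def mulWord (l : List (Option (Fin 5))) (n : Fin 32) : Fin 32 := l.foldr mulGen n

/-- Multiplication of normal forms. -/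
def mulN (m n : Fin 32) : Fin 32 := mulWord (wordN m) n

/-- The action of a permutation on normal forms. -/
def actN (b : A5) (n : Fin 32) : Fin 32 :=
  mulWord ((wordN n).map (Option.map fun i => (b : Perm (Fin 5)) i)) 0

/-- Multiplication in the semidirect product. -/
def mulP (x y : Fin 32 × A5) : Fin 32 × A5 := (mulN x.1 (actN x.2 y.1), x.2 * y.2)

/-- The code of the first involution. -/
def cV : Fin 32 × A5 := (mulGen (some 0) 0, 1)

/-- The code of a permutation. -/
def cB (b : A5) : Fin 32 × A5 := (0, b)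

/-- The conditions on the conjugate of `v₁ v₂`. -/
def condB (y : Fin 32 × A5) : Bool :=
  decide (mulP y cV = mulP cV y) && decide (mulP y y = cV) &&
    decide (mulP (mulP (cB p0) y) (cB p0) = mulP y cV) &&
    decide (mulP (mulP y (mulP (mulP (cB q0) y) (cB q0⁻¹)))
      (mulP (mulP (cB (q0 * q0)) y) (cB (q0⁻¹ * q0⁻¹))) = (0, 1))

theorem cond_unique : ∀ (n : Fin 32) (b : A5), condB (n, b) = true → n = 5 ∧ b = w0 := by decide +kernel

theorem x_facts : mulP ((3, 1) : Fin 32 × A5) (3, 1) = (16, 1) ∧
    mulP (mulP (cB p0) (3, 1)) (cB p0) = (19, 1) ∧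
    mulP (mulP ((3, 1) : Fin 32 × A5) (mulP (mulP (cB q0) (3, 1)) (cB q0⁻¹)))
      (mulP (mulP (cB (q0 * q0)) (3, 1)) (cB (q0⁻¹ * q0⁻¹))) = (0, 1) ∧
    mulP cV (3, 1) = mulP ((3, 1) : Fin 32 × A5) cV := by decide +kernel

theorem exists_inv : ∀ n : Fin 32, ∃ m : Fin 32, mulN m n = 0 := by decide +kernel

theorem exists_flip : ∀ n : Fin 32, n ≠ 0 → n ≠ 16 →
    ∃ i : Fin 5, i ≠ 0 ∧ mulGen (some i) n = flipBit 4 (mulN n (mulGen (some i) 0)) := by decide +kernel

variable {G : Type*} [Group G]

/-- A five-tuple of anticommuting involutions with product one. -/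
structure Tuple (z : G) (u : Fin 5 → G) : Prop where
  zz : z * z = 1
  z1 : z ≠ 1
  sq : ∀ i, u i * u i = 1
  cz : ∀ i, u i * z = z * u i
  anti : ∀ i j, i ≠ j → u i * u j = z * (u j * u i)
  prod : u 0 * (u 1 * (u 2 * (u 3 * u 4))) = 1

/-- The value of a letter. -/
def valG (z : G) (u : Fin 5 → G) : Option (Fin 5) → G
  | none => z
  | some i => u i

/-- The value of a normal form. -/
def ev (z : G) (u : Fin 5 → G) (n : Fin 32) : G := ((wordN n).map (valG z u)).prod

namespace Tuple

variable {z : G} {u : Fin 5 → G} (T : Tuple z u)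
include T

theorem zero_eq : u 0 = u 4 * (u 3 * (u 2 * u 1)) := by
  have h := eq_inv_of_mul_eq_one_left T.prod
  rw [h, mul_inv_rev, mul_inv_rev, mul_inv_rev, inv_eq_of_mul_eq_one_right (T.sq 1),
    inv_eq_of_mul_eq_one_right (T.sq 2), inv_eq_of_mul_eq_one_right (T.sq 3),
    inv_eq_of_mul_eq_one_right (T.sq 4)]
  group

theorem ev_flip (n : Fin 32) : ev z u (flipBit 4 n) = z * ev z u n := by
  have hzz : ∀ x, z * (z * x) = x := fun x => by rw [← mul_assoc, T.zz, one_mul]
  fin_cases n <;> simp [ev, wordN, flipBit, valG, hzz, T.zz]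

theorem ev_pos (i : Fin 5) (hi : i ≠ 0) (n : Fin 32) : ev z u (mulGen (some i) n) = u i * ev z u n := by
  have hzz : ∀ x, z * (z * x) = x := fun x => by rw [← mul_assoc, T.zz, one_mul]
  have hsq : ∀ j x, u j * (u j * x) = x := fun j x => by rw [← mul_assoc, T.sq, one_mul]
  have hcz : ∀ j x, u j * (z * x) = z * (u j * x) := fun j x => by
    rw [← mul_assoc, T.cz, mul_assoc]
  have hanti : ∀ a b, a ≠ b → ∀ x, u a * (u b * x) = z * (u b * (u a * x)) := fun a b hab x => by
    rw [← mul_assoc, T.anti a b hab, mul_assoc, mul_assoc]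
  have h21 := hanti 2 1 (by decide)
  have h31 := hanti 3 1 (by decide)
  have h32 := hanti 3 2 (by decide)
  have h41 := hanti 4 1 (by decide)
  have h42 := hanti 4 2 (by decide)
  have h43 := hanti 4 3 (by decide)
  have g21 := T.anti 2 1 (by decide)
  have g31 := T.anti 3 1 (by decide)
  have g32 := T.anti 3 2 (by decide)
  have g41 := T.anti 4 1 (by decide)
  have g42 := T.anti 4 2 (by decide)
  have g43 := T.anti 4 3 (by decide)
  fin_cases i
  · exact absurd rfl hi
  all_goals
    fin_cases n <;>
      simp [ev, wordN, flipBit, mulPos, mulGen, valG, hzz, hsq, hcz, T.zz, T.sq, T.cz, h21, h31, h32, h41,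
        h42, h43, g21, g31, g32, g41, g42, g43]

theorem ev_gen (o : Option (Fin 5)) (n : Fin 32) : ev z u (mulGen o n) = valG z u o * ev z u n := by
  rcases o with _ | i
  · exact T.ev_flip n
  · by_cases hi : i = 0
    · subst hi
      show ev z u (mulGen (some 4) (mulGen (some 3) (mulGen (some 2) (mulGen (some 1) n)))) = _
      rw [T.ev_pos 4 (by decide), T.ev_pos 3 (by decide), T.ev_pos 2 (by decide), T.ev_pos 1 (by decide)]
      show _ = u 0 * _
      rw [T.zero_eq]
      simp only [mul_assoc]
    · exact T.ev_pos i hi n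

theorem ev_word (l : List (Option (Fin 5))) (n : Fin 32) :
    ev z u (mulWord l n) = (l.map (valG z u)).prod * ev z u n := by
  induction l with
  | nil => simp [mulWord]
  | cons o l ih =>
    rw [List.map_cons, List.prod_cons, mul_assoc, ← ih]
    exact T.ev_gen o _

theorem ev_mul (m n : Fin 32) : ev z u (mulN m n) = ev z u m * ev z u n := T.ev_word _ n

omit T in
theorem ev_zero : ev z u 0 = 1 := rfl

theorem ev_sixteen : ev z u 16 = z := by
  have h := T.ev_flip 0
  rwa [show flipBit 4 0 = (16 : Fin 32) by decide, ev_zero, mul_one] at h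

theorem ev_eq_one {n : Fin 32} (h : ev z u n = 1) : n = 0 := by
  by_contra h0
  by_cases h16 : n = 16
  · subst h16
    exact T.z1 (T.ev_sixteen ▸ h)
  obtain ⟨i, hi, he⟩ := exists_flip n h0 h16
  have h1 := congrArg (ev z u) he
  rw [T.ev_pos i hi, T.ev_flip, T.ev_mul, h, T.ev_pos i hi, ev_zero, mul_one, one_mul] at h1
  exact T.z1 (mul_eq_right.1 h1.symm)

theorem ev_injective : Function.Injective (ev z u) := by
  intro m n h
  obtain ⟨k, hk⟩ := exists_inv m
  have h1 : ev z u (mulN k n) = 1 := by rw [T.ev_mul, ← h, ← T.ev_mul, hk, ev_zero]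
  have h2 : mulN k n = mulN k m := (T.ev_eq_one h1).trans hk.symm
  have h3 : ∀ k a b : Fin 32, mulN k a = mulN k b → a = b := by decide +kernel
  exact (h3 k n m h2).symm

variable (β : A5 →* G) (hzβ : ∀ b, β b * z = z * β b)
  (hu : ∀ (b : A5) i, β b * u i * (β b)⁻¹ = u ((b : Perm (Fin 5)) i))

include hzβ hu in
theorem ev_act (b : A5) (n : Fin 32) : β b * ev z u n * (β b)⁻¹ = ev z u (actN b n) := by
  rw [actN, T.ev_word, ev_zero, mul_one]
  show MulAut.conj (β b) ((wordN n).map (valG z u)).prod = _
  rw [map_list_prod, List.map_map, List.map_map]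
  refine congrArg List.prod (List.map_congr_left fun o _ => ?_)
  rcases o with _ | i
  · show β b * z * (β b)⁻¹ = z
    rw [hzβ, mul_inv_cancel_right]
  · exact hu b i

omit T in
/-- The value of a pair. -/
def evP (z : G) (u : Fin 5 → G) (β : A5 →* G) (x : Fin 32 × A5) : G := ev z u x.1 * β x.2

include hzβ hu in
theorem evP_mul (x y : Fin 32 × A5) : evP z u β (mulP x y) = evP z u β x * evP z u β y := by
  simp only [evP, mulP, T.ev_mul, map_mul, ← T.ev_act β hzβ hu]
  group

end Tuple

end CfsgLib.JTwoRecog
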