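import Cfsg.Agent.Lib.JTwoRecog.Amal.Exists
import Cfsg.Agent.Lib.JTwoRecog.Amal.Model

/-!
# The five involutions of the extraspecial group moved by the second alternating group
-/

set_option autoImplicit false
set_option linter.style.haveILetI false

namespace CfsgLib.JTwoRecog

open Subgroup CfsgLib.JTwoType Equiv
open CfsgLib.JTwoType.Data (mem_cent)

universe u

theorem d0_shift : ∀ i j : Fin 5, (((d0 ^ j.val)⁻¹ : A5) : Perm (Fin 5)) i = i - j ∧
    ((d0 ^ j.val : A5) : Perm (Fin 5)) i = i + j := by decide +kernel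

theorem w0_facts : w0 * w0 = 1 ∧ p0 * p0 = 1 ∧ p0 ≠ 1 ∧ w0 * p0 = p0 * w0 ∧ p0 ≠ w0 := by decide +kernel

namespace Amal

variable {G : Type u} [Group G] {z : G} (A : Amal z)

/-- The involution of the first alternating group commuting with `z`. -/
def vI : G := A.α p0

/-- The five conjugates of `vI`. -/
def vv (i : Fin 5) : G := A.β (d0 ^ i.val) * A.vI * (A.β (d0 ^ i.val))⁻¹

theorem z_comm (b : A5) : Commute z (A.β b) := by
  have := A.hw b
  rwa [A.hz] at this

theorem vI_stab {b : A5} (hb : (b : Perm (Fin 5)) 0 = 0) : Commute A.vI (A.β b) := by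
  have hp : Commute A.vI (A.β p0) := A.hp p0
  have hq : Commute A.vI (A.β q0) := A.hq p0
  have hr : Commute A.vI (A.β (q0 * p0 * q0⁻¹)) := by
    rw [map_mul, map_mul, map_inv]
    exact (hq.mul_right hp).mul_right hq.inv_right
  obtain ⟨i, -, j, -, k, -, h | h⟩ := stab_zero b hb <;> rw [h, map_mul, map_mul, map_pow, map_pow, map_pow]
  · exact ((hp.pow_right i).mul_right (hq.pow_right j)).mul_right (hr.pow_right k)
  · exact ((hp.pow_right i).mul_right (hr.pow_right k)).mul_right (hq.pow_right j)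

theorem vv_zero : A.vv 0 = A.vI := by simp [vv]

theorem conj_vI (b : A5) : A.β b * A.vI * (A.β b)⁻¹ = A.vv ((b : Perm (Fin 5)) 0) := by
  set k := (b : Perm (Fin 5)) 0 with hk
  have hc : Commute A.vI (A.β ((d0 ^ k.val)⁻¹ * b)) := A.vI_stab (by
    rw [Subgroup.coe_mul, Perm.mul_apply, ← hk, (d0_shift k k).1, sub_self])
  unfold vv
  calc A.β b * A.vI * (A.β b)⁻¹
      = A.β (d0 ^ k.val) * (A.β ((d0 ^ k.val)⁻¹ * b) * A.vI * (A.β ((d0 ^ k.val)⁻¹ * b))⁻¹) *
          (A.β (d0 ^ k.val))⁻¹ := by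
        rw [map_mul, map_inv]; group
    _ = _ := by rw [← hc.eq, mul_inv_cancel_right]

theorem conj_vv (b : A5) (i : Fin 5) : A.β b * A.vv i * (A.β b)⁻¹ = A.vv ((b : Perm (Fin 5)) i) := by
  rw [show A.β b * A.vv i * (A.β b)⁻¹ = A.β (b * d0 ^ i.val) * A.vI * (A.β (b * d0 ^ i.val))⁻¹ by
    rw [map_mul]; unfold vv; group, A.conj_vI, Subgroup.coe_mul, Perm.mul_apply, d0_point]

theorem vI_invol : A.vI * A.vI = 1 ∧ A.vI ≠ 1 ∧ A.vI ≠ z ∧ Commute A.vI z := by
  obtain ⟨-, h2, h1, hc, hne⟩ := w0_facts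
  refine ⟨by rw [vI, ← map_mul, h2, map_one], fun h => h1 (A.hα (h.trans (map_one A.α).symm)),
    fun h => hne (A.hα (h.trans A.hz.symm)), ?_⟩
  have h : Commute (A.α p0) (A.α w0) := (show Commute p0 w0 from hc.symm).map A.α
  rw [A.hz] at h
  exact h

theorem orderOf_beta {k : Fin 5} (hk : k ≠ 0) : orderOf (A.β (d0 ^ k.val)) = 5 := by
  haveI : Fact (Nat.Prime 5) := ⟨by norm_num⟩
  rw [orderOf_injective A.β A.hβ]
  have h : ∀ k : Fin 5, k ≠ 0 → (d0 ^ k.val) ^ 5 = 1 ∧ d0 ^ k.val ≠ 1 := by decide +kernel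
  exact orderOf_eq_prime (h k hk).1 (h k hk).2

end Amal

variable {G : Type u} [Group G] [Finite G] (D : CfsgLib.JTwoType.Data G) (A : Amal D.z)

theorem vI_mem : A.vI ∈ D.Q := by
  obtain ⟨h2, h1, -, hc⟩ := A.vI_invol
  by_contra hQ
  exact D.ht.hzt (A.hv.symm.trans (D.hc.hCz _ (mem_cent.2 hc) (CfsgLib.Invol.orderOf_eq_two h1 h2) hQ))

theorem vv_mem (i : Fin 5) : A.vv i ∈ D.Q :=
  D.hc.conj_mem (mem_cent.2 (A.z_comm _).symm) (vI_mem D A)

theorem fixed_five {y q : G} (hyz : Commute y D.z) (hy : orderOf y = 5) (hq : q ∈ D.Q) (hc : Commute q y) :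
    q = 1 ∨ q = D.z := by
  classical
  obtain ⟨h10, -⟩ := D.card_cent_inf_z (mem_cent.2 hyz) (Or.inr rfl) hy
  norm_num at h10
  set S : Subgroup G := D.Q ⊓ centralizer ({y} : Set G) with hS
  have hS2 : Nat.card S ∣ 2 := by
    have h1 : Nat.card S ∣ 32 := by rw [← D.hc.hQ]; exact card_dvd_of_le inf_le_left
    have h2 : Nat.card S ∣ 10 := by
      rw [← h10]
      exact card_dvd_of_le (le_inf inf_le_right (inf_le_left.trans D.hc.hQle))
    exact (Nat.dvd_gcd h1 h2)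
  by_contra hne
  rw [not_or] at hne
  haveI := Fintype.ofFinite S
  have hzS : D.z ∈ S := ⟨D.hc.hzQ, mem_cent.2 hyz.symm⟩
  have hqS : q ∈ S := ⟨hq, mem_cent.2 hc⟩
  have hle := Finset.card_le_univ ({1, ⟨D.z, hzS⟩, ⟨q, hqS⟩} : Finset S)
  rw [← Nat.card_eq_fintype_card, Finset.card_insert_of_notMem (by
      simp [Subtype.ext_iff, Ne.symm (D.hc.z_ne D.ht), Ne.symm hne.1]),
    Finset.card_insert_of_notMem (by simp [Subtype.ext_iff, Ne.symm hne.2]), Finset.card_singleton] at hle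
  have := Nat.le_of_dvd (by norm_num) hS2
  omega

theorem vv_sq (i : Fin 5) : A.vv i * A.vv i = 1 := by
  show A.β _ * A.vI * (A.β _)⁻¹ * (A.β _ * A.vI * (A.β _)⁻¹) = 1
  rw [show ∀ g x : G, g * x * g⁻¹ * (g * x * g⁻¹) = g * (x * x) * g⁻¹ from fun g x => by group,
    A.vI_invol.1]
  group

theorem vv_ne (k : Fin 5) (hk : k ≠ 0) : A.vv k ≠ A.vI ∧ A.vv k ≠ A.vI * D.z := by
  obtain ⟨hv2, hv1, hvz, hvc⟩ := A.vI_invol
  have key : ∀ j : Fin 5, j ≠ 0 → A.vv j ≠ A.vI := by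
    intro j hj he
    rcases fixed_five D (A.z_comm (d0 ^ j.val)).symm (A.orderOf_beta hj) (vI_mem D A)
      (show Commute A.vI (A.β (d0 ^ j.val)) from (mul_inv_eq_iff_eq_mul.1 he).symm) with h | h
    · exact hv1 h
    · exact hvz h
  refine ⟨key k hk, fun he => key (k + k) ?_ ?_⟩
  · exact (show ∀ k : Fin 5, k ≠ 0 → k + k ≠ 0 by decide) k hk
  have h := A.conj_vv (d0 ^ k.val) k
  rw [(d0_shift k k).2, he,
    show A.β (d0 ^ k.val) * (A.vI * D.z) * (A.β (d0 ^ k.val))⁻¹ =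
      A.β (d0 ^ k.val) * A.vI * (A.β (d0 ^ k.val))⁻¹ * (A.β (d0 ^ k.val) * D.z * (A.β (d0 ^ k.val))⁻¹) by group,
    ← (A.z_comm _).eq, mul_inv_cancel_right] at h
  change A.vv k * D.z = A.vv (k + k) at h
  rw [← h, he, mul_assoc, CfsgLib.Invol.mul_self_eq_one D.ht.hz, mul_one]

theorem vv_not_comm {i j : Fin 5} (hij : i ≠ j) : ¬ Commute (A.vv i) (A.vv j) := by
  intro hc
  obtain ⟨hv2, hv1, hvz, -⟩ := A.vI_invol
  have hk : i - j ≠ 0 := sub_ne_zero.2 hij
  have h := (Commute.conj_iff (A.β (d0 ^ j.val)⁻¹)).2 hc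
  rw [A.conj_vv, A.conj_vv, (d0_shift i j).1, (d0_shift j j).1, sub_self, A.vv_zero] at h
  obtain ⟨hne, hnez⟩ := vv_ne D A _ hk
  rcases (D.hc.involution_count D.ht).2 _ (vI_mem D A) hv2 hv1 hvz _ (vv_mem D A _) (vv_sq D A _) h.symm with
    e | e | e | e
  · apply hv1
    have e' := e
    unfold Amal.vv at e'
    exact conj_eq_one_iff.1 e'
  · refine hvz ?_
    have h2 : A.vI = (A.β (d0 ^ (i - j).val))⁻¹ * A.vv (i - j) * A.β (d0 ^ (i - j).val) := by
      unfold Amal.vv; group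
    rw [e] at h2
    rw [h2, mul_assoc, (A.z_comm _).eq, inv_mul_cancel_left]
  · exact hne e
  · exact hnez e

theorem vv_anti {i j : Fin 5} (hij : i ≠ j) : A.vv i * A.vv j = D.z * (A.vv j * A.vv i) := by
  rcases D.hc.hcomm _ (vv_mem D A i) _ (vv_mem D A j) with h | h
  · exact absurd h (vv_not_comm D A hij)
  · rw [h, (D.hc.z_comm (mul_mem (vv_mem D A j) (vv_mem D A i))).eq]

/-- The product of the five involutions. -/
def prodV : G := A.vv 0 * (A.vv 1 * (A.vv 2 * (A.vv 3 * A.vv 4)))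

theorem prodV_cases : prodV D A = 1 ∨ prodV D A = D.z := by
  set π := prodV D A with hπ
  set e := A.β d0 with he
  have hzz := CfsgLib.Invol.mul_self_eq_one D.ht.hz
  have hπQ : π ∈ D.Q := mul_mem (vv_mem D A 0) (mul_mem (vv_mem D A 1) (mul_mem (vv_mem D A 2)
    (mul_mem (vv_mem D A 3) (vv_mem D A 4))))
  have hpt : ∀ i : Fin 5, (d0 : Perm (Fin 5)) i = i + 1 := by decide +kernel
  have hrot : e * π * e⁻¹ = A.vv 0 * π * A.vv 0 := by
    rw [hπ, prodV]
    rw [show ∀ a b c d f : G, e * (a * (b * (c * (d * f)))) * e⁻¹ =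
        e * a * e⁻¹ * (e * b * e⁻¹ * (e * c * e⁻¹ * (e * d * e⁻¹ * (e * f * e⁻¹)))) from
          fun a b c d f => by group,
      he, A.conj_vv, A.conj_vv, A.conj_vv, A.conj_vv, A.conj_vv]
    simp only [hpt]
    rw [← mul_assoc (A.vv 0) (A.vv 0), vv_sq D A 0, one_mul]
    simp only [mul_assoc]
    rfl
  have heo : orderOf e = 5 := by
    have h := A.orderOf_beta (k := 1) (by decide)
    rwa [show ((1 : Fin 5) : Fin 5).val = 1 from rfl, pow_one] at h
  have hv0 := vv_sq D A 0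
  refine fixed_five D (A.z_comm d0).symm heo hπQ ?_
  show Commute π e
  rcases D.hc.hcomm _ (vv_mem D A 0) _ hπQ with h | h
  · have h' : e * π * e⁻¹ = π := by rw [hrot, h, mul_assoc, hv0, mul_one]
    exact (mul_inv_eq_iff_eq_mul.1 h').symm
  · exfalso
    have h' : e * π * e⁻¹ = π * D.z := by
      rw [hrot, h, show π * A.vv 0 * D.z * A.vv 0 = π * (A.vv 0 * D.z * A.vv 0) by group,
        (D.hc.z_comm (vv_mem D A 0)).eq, mul_assoc D.z, hv0, mul_one]
    have hez : e * D.z * e⁻¹ = D.z := by rw [← (A.z_comm d0).eq, mul_inv_cancel_right]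
    have hstep : ∀ n : ℕ, e ^ n * π * (e ^ n)⁻¹ = π * D.z ^ n := by
      intro n
      induction n with
      | zero => simp
      | succ n ih =>
        rw [pow_succ', show e * e ^ n * π * (e * e ^ n)⁻¹ = e * (e ^ n * π * (e ^ n)⁻¹) * e⁻¹ by group, ih,
          show e * (π * D.z ^ n) * e⁻¹ = e * π * e⁻¹ * (e * D.z ^ n * e⁻¹) by group, ← conj_pow,
          h', hez, mul_assoc, ← pow_succ']
    have h5 := hstep 5
    rw [show e ^ 5 = 1 by rw [← heo, pow_orderOf_eq_one], one_mul, inv_one, mul_one,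
      show D.z ^ 5 = D.z by simp [pow_succ, hzz, mul_assoc]] at h5
    exact D.hc.z_ne D.ht (mul_eq_left.1 h5.symm)

/-- The amalgam can be chosen so that the product of the five involutions is one. -/
theorem exists_normal_amal (D : CfsgLib.JTwoType.Data G) : ∃ A : Amal D.z, prodV D A = 1 := by
  obtain ⟨A⟩ := exists_amal D
  rcases prodV_cases D A with h | h
  · exact ⟨A, h⟩
  obtain ⟨hs0, hsp, hsq⟩ := sigma_facts
  have hsp' : (MulAut.conjNormal sigma p0 : A5) = q0⁻¹ * p0 * q0 := Subtype.ext hsp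
  have hsq' : (MulAut.conjNormal sigma q0 : A5) = q0⁻¹ := Subtype.ext hsq
  let A' : Amal D.z :=
    { α := A.α
      β := A.β.comp (MulAut.conjNormal sigma : MulAut A5).toMonoidHom
      hα := A.hα
      hβ := A.hβ.comp (MulAut.conjNormal sigma : MulAut A5).injective
      hp := fun a => by
        show Commute (A.α a) (A.β (MulAut.conjNormal sigma p0))
        rw [hsp', map_mul, map_mul, map_inv]
        exact ((A.hq a).inv_right.mul_right (A.hp a)).mul_right (A.hq a)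
      hq := fun a => by
        show Commute (A.α a) (A.β (MulAut.conjNormal sigma q0))
        rw [hsq', map_inv]
        exact (A.hq a).inv_right
      hd := fun b => A.hd _
      hw := fun b => A.hw _
      hz := A.hz
      hv := A.hv }
  refine ⟨A', ?_⟩
  have hvv : ∀ i : Fin 5, A'.vv i = A.vv (sigma i) := by
    intro i
    show A.β (MulAut.conjNormal sigma (d0 ^ i.val)) * A.vI * (A.β (MulAut.conjNormal sigma (d0 ^ i.val)))⁻¹ = _
    rw [A.conj_vI]
    congr 1
    show (sigma * ((d0 ^ i.val : A5) : Perm (Fin 5)) * sigma⁻¹) 0 = sigma i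
    rw [Perm.mul_apply, Perm.mul_apply, show sigma⁻¹ 0 = 0 by decide, d0_point]
  unfold prodV at h ⊢
  rw [hvv, hvv, hvv, hvv, hvv, show sigma 0 = 0 by decide, show sigma 1 = 1 by decide,
    show sigma 2 = 3 by decide, show sigma 3 = 2 by decide, show sigma 4 = 4 by decide]
  have hz2 := CfsgLib.Invol.mul_self_eq_one D.ht.hz
  have hzc : ∀ i, A.vv i * D.z = D.z * A.vv i := fun i => (D.hc.z_comm (vv_mem D A i)).eq
  calc A.vv 0 * (A.vv 1 * (A.vv 3 * (A.vv 2 * A.vv 4)))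
      = A.vv 0 * (A.vv 1 * ((A.vv 3 * A.vv 2) * A.vv 4)) := by simp only [mul_assoc]
    _ = D.z * (A.vv 0 * (A.vv 1 * (A.vv 2 * (A.vv 3 * A.vv 4)))) := by
        rw [vv_anti D A (show (3 : Fin 5) ≠ 2 by decide)]
        simp only [← mul_assoc, hzc]
    _ = 1 := by rw [h, hz2]


end CfsgLib.JTwoRecog
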